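import Cfsg.Agent.S0799
import Cfsg.Agent.S0252
import Cfsg.Agent.S0253
import Cfsg.Agent.H894.CompSimp
import Cfsg.Agent.ClassicalGeometry.PSL2Solvable
import Cfsg.Prelude.Def_LieTypeChar

/-!
# Simple subgroups of `PSL₂(q)` of order divisible by `p` (S3512; helper19)

`psl_sub` : such a group is `PSL₂(q')`, `q'` a power of `p`, or `p = 3` and it is `A₅`.
-/

set_option autoImplicit false
set_option linter.style.haveILetI false

open Cfsg Matrix

namespace Cfsg.Agent.H19.RP

universe u

/-- a simple `PGL₂(K)` is `PSL₂(K)` -/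
theorem pgl_psl {K : Type} [Field K] [Fintype K] (hs : IsSimpleGroup (ProjGenLinGroup (Fin 2) K)) :
    Nonempty (ProjGenLinGroup (Fin 2) K ≃* ProjectiveSpecialLinearGroup (Fin 2) K) := by
  let t : ProjectiveSpecialLinearGroup (Fin 2) K →* ProjGenLinGroup (Fin 2) K :=
    ProjectiveSpecialLinearGroup.toPGL
  have ht : Function.Injective t := ProjectiveSpecialLinearGroup.toPGL_injective
  have hn : t.range.Normal := by
    have h1 : t.range = ((SpecialLinearGroup.toGL : SpecialLinearGroup (Fin 2) K →* GL (Fin 2) K).range).map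
        (ProjGenLinGroup.mk : GL (Fin 2) K →* ProjGenLinGroup (Fin 2) K) := by
      ext x
      constructor
      · rintro ⟨y, rfl⟩
        obtain ⟨g, rfl⟩ := QuotientGroup.mk_surjective y
        exact ⟨_, ⟨g, rfl⟩, rfl⟩
      · rintro ⟨_, ⟨g, rfl⟩, rfl⟩
        exact ⟨QuotientGroup.mk g, rfl⟩
    rw [h1, Cfsg.Agent.ClassicalGeometry.PSL2Basic.range_toGL]
    exact Subgroup.Normal.map inferInstance _ ProjGenLinGroup.mk_surjective
  rcases hn.eq_bot_or_eq_top with h | h
  · exfalso
    have h1 : Nat.card t.range = Nat.card (ProjectiveSpecialLinearGroup (Fin 2) K) :=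
      (Nat.card_congr (MonoidHom.ofInjective ht).toEquiv).symm
    rw [h, Subgroup.card_bot] at h1
    have h2 := Cfsg.Agent.ClassicalGeometry.PSL2Basic.card_PSL2_gcd K
    rw [← h1, one_mul] at h2
    have h3 : Nat.gcd 2 (Fintype.card K - 1) ≤ 2 := Nat.le_of_dvd (by norm_num) (Nat.gcd_dvd_left _ _)
    have h4 : 2 ≤ Fintype.card K := Fintype.one_lt_card
    have h5 : 3 ≤ Fintype.card K ^ 2 - 1 := by
      have : 2 ^ 2 ≤ Fintype.card K ^ 2 := Nat.pow_le_pow_left h4 2
      omega
    have h6 : 2 * 3 ≤ Fintype.card K * (Fintype.card K ^ 2 - 1) := Nat.mul_le_mul h4 h5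
    omega
  · exact ⟨(MulEquiv.ofBijective t ⟨ht, MonoidHom.range_eq_top.1 h⟩).symm⟩

/-- the characteristic of a field whose power is the order of `F` -/
theorem charP_of_pow {F : Type u} [Field F] [Fintype F] (p : ℕ) [hp : Fact p.Prime] [CharP F p] {K : Type} [Field K]
    [Fintype K] {m : ℕ} (h : Fintype.card K ^ m = Fintype.card F) : CharP K p := by
  obtain ⟨k, -, hk⟩ := FiniteField.card F p
  obtain ⟨r, hr⟩ := CharP.exists K
  haveI := hr
  have hrp : r.Prime := CharP.char_is_prime K r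
  haveI : Fact r.Prime := ⟨hrp⟩
  obtain ⟨j, -, hj⟩ := FiniteField.card K r
  have hm : m ≠ 0 := by
    rintro rfl
    rw [pow_zero] at h
    exact Fintype.one_lt_card.ne h
  have h1 : r ∣ p ^ (k : ℕ) := by
    rw [← hk, ← h]
    refine dvd_pow ?_ hm
    rw [hj]
    exact dvd_pow_self r j.2.ne'
  have h2 := (Nat.prime_dvd_prime_iff_eq hrp hp.out).1 (hrp.dvd_of_dvd_pow h1)
  rw [← h2]
  exact hr

theorem alt_two {S : Type u} [Group S] (e : S ≃* alternatingGroup (Fin 5)) : IsPSLChar 2 S := by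
  haveI : Fact (Nat.Prime 2) := ⟨Nat.prime_two⟩
  have hc : Nat.card (GaloisField 2 2) = 4 := by rw [GaloisField.card 2 2 (by norm_num)]; norm_num
  haveI : Finite (GaloisField 2 2) := Nat.finite_of_card_ne_zero (by rw [hc]; norm_num)
  letI : Fintype (GaloisField 2 2) := Fintype.ofFinite _
  have hc' : Fintype.card (GaloisField 2 2) = 4 := by rw [← Nat.card_eq_fintype_card]; exact hc
  obtain ⟨f⟩ := Cfsg.Agent.S0252.result hc'
  exact ⟨GaloisField 2 2, inferInstance, inferInstance, inferInstance, 2, le_rfl, fun _ => by rw [hc'],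
    ⟨e.trans f.symm⟩⟩

theorem alt_five {S : Type u} [Group S] (e : S ≃* alternatingGroup (Fin 5)) : IsPSLChar 5 S := by
  haveI : Fact (Nat.Prime 5) := ⟨by norm_num⟩
  have hc : Fintype.card (ZMod 5) = 5 := ZMod.card 5
  obtain ⟨f⟩ := Cfsg.Agent.S0253.result hc
  exact ⟨ZMod 5, inferInstance, inferInstance, inferInstance, 2, le_rfl, fun _ => by rw [hc]; norm_num,
    ⟨e.trans f.symm⟩⟩

theorem card_psl_small {K : Type} [Field K] [Fintype K] (h : Fintype.card K ≤ 3) :
    Nat.card (ProjectiveSpecialLinearGroup (Fin 2) K) ≤ 24 := by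
  have h1 := Cfsg.Agent.ClassicalGeometry.PSL2Basic.card_PSL2_gcd K
  have h2 : 0 < Nat.gcd 2 (Fintype.card K - 1) := Nat.gcd_pos_of_pos_left _ (by norm_num)
  have h3 : Fintype.card K * (Fintype.card K ^ 2 - 1) ≤ 24 := by
    have h4 : 2 ≤ Fintype.card K := Fintype.one_lt_card
    interval_cases Fintype.card K <;> norm_num
  calc Nat.card (ProjectiveSpecialLinearGroup (Fin 2) K)
      ≤ Nat.card (ProjectiveSpecialLinearGroup (Fin 2) K) * Nat.gcd 2 (Fintype.card K - 1) := Nat.le_mul_of_pos_right _ h2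
    _ ≤ 24 := by rw [h1]; exact h3

/-- **Simple subgroups of `PSL₂(q)` of order divisible by `p`.** -/
theorem psl_sub {F : Type u} [Field F] [Fintype F] (p : ℕ) [hp : Fact p.Prime] [CharP F p]
    (H : Subgroup (ProjectiveSpecialLinearGroup (Fin 2) F)) (hs : IsSimpleGroup H)
    (hc : ¬ IsMulCommutative H) (hpH : p ∣ Nat.card H) :
    IsPSLChar p H ∨ (p = 3 ∧ Nonempty (H ≃* alternatingGroup (Fin 5))) := by
  have h60 : 60 ≤ Nat.card H := Cfsg.Agent.H894.sixty_le hc
  have hns : ¬ Group.IsSolvable H := by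
    intro h
    apply hc
    exact ⟨⟨fun a b => IsSimpleGroup.comm_iff_isSolvable.2 h a b⟩⟩
  rcases Cfsg.Agent.S0799.result (q := Fintype.card F) rfl p H with ⟨k, -, h | ⟨⟨e⟩⟩⟩ | ⟨P, K, hK, ⟨e⟩⟩ | ⟨⟨e⟩⟩ | ⟨⟨e⟩⟩ |
    ⟨⟨e⟩⟩ | ⟨K, _, _, m, hm, ⟨⟨e⟩⟩ | ⟨⟨e⟩⟩⟩
  · exfalso
    obtain ⟨h1, -⟩ := h
    exact hc ⟨⟨fun a b => h1.isMulCommutative.is_comm.comm a b⟩⟩
  · exfalso
    apply hns
    have := Cfsg.Agent.ClassicalGeometry.PSL2Solvable.isSolvable_dihedral k
    exact Group.isSolvable_of_isSolvable_injective (f := e.toMonoidHom) e.injective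
  · -- in the normaliser of a Sylow `p`-subgroup
    exfalso
    haveI : IsSimpleGroup K := e.symm.isSimpleGroup
    let P' : Subgroup K := (P : Subgroup (ProjectiveSpecialLinearGroup (Fin 2) F)).subgroupOf K
    have hPn : P'.Normal := by
      constructor
      intro x hx g
      have h1 := hK g.2
      rw [Subgroup.mem_subgroupOf] at hx ⊢
      have h2 := (Subgroup.mem_normalizer_iff.1 h1 (x : ProjectiveSpecialLinearGroup (Fin 2) F)).1 hx
      exact h2
    rcases hPn.eq_bot_or_eq_top with h | h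
    · -- `K` has order prime to `p`
      have h1 : p ∣ Nat.card K := by rw [← Nat.card_congr e.toEquiv]; exact hpH
      obtain ⟨x, hx⟩ := exists_prime_orderOf_dvd_card' (G := K) p h1
      have hxP : IsPGroup p (Subgroup.zpowers (x : ProjectiveSpecialLinearGroup (Fin 2) F)) := by
        refine IsPGroup.of_card (n := 1) ?_
        rw [Nat.card_zpowers, Subgroup.orderOf_coe, hx, pow_one]
      -- `x` normalises `P`, so it is in `P`
      have h2 : (x : ProjectiveSpecialLinearGroup (Fin 2) F) ∈ (P : Subgroup (ProjectiveSpecialLinearGroup (Fin 2) F)) := by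
        have h3 : IsPGroup p ((P : Subgroup (ProjectiveSpecialLinearGroup (Fin 2) F)) ⊔
            Subgroup.zpowers (x : ProjectiveSpecialLinearGroup (Fin 2) F) : Subgroup _) :=
          IsPGroup.to_sup_of_normal_left' P.isPGroup' hxP (by
            rw [Subgroup.zpowers_le]
            exact hK x.2)
        have h4 := P.is_maximal' h3 le_sup_left
        have h5 : (x : ProjectiveSpecialLinearGroup (Fin 2) F) ∈ ((P : Subgroup (ProjectiveSpecialLinearGroup (Fin 2) F)) ⊔
            Subgroup.zpowers (x : ProjectiveSpecialLinearGroup (Fin 2) F) : Subgroup _) :=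
          (le_sup_right : Subgroup.zpowers _ ≤ _) (Subgroup.mem_zpowers _)
        rwa [h4] at h5
      have h6 : x ∈ P' := Subgroup.mem_subgroupOf.2 h2
      rw [h, Subgroup.mem_bot] at h6
      rw [h6, orderOf_one] at hx
      exact hp.out.one_lt.ne hx
    · apply hns
      have h1 : IsPGroup p K := by
        have h2 : K ≤ P := by
          intro x hx
          have h3 : (⟨x, hx⟩ : K) ∈ P' := by rw [h]; trivial
          exact Subgroup.mem_subgroupOf.1 h3
        exact P.isPGroup'.to_le h2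
      have h2 : Group.IsNilpotent K := h1.isNilpotent
      have h3 : Group.IsSolvable K := inferInstance
      exact Group.isSolvable_of_isSolvable_injective (f := e.toMonoidHom) e.injective
  · exfalso
    rw [Nat.card_congr e.toEquiv, nat_card_alternatingGroup] at h60
    norm_num [Nat.factorial] at h60
  · exfalso
    rw [Nat.card_congr e.toEquiv, Nat.card_perm, Nat.card_fin] at h60
    norm_num [Nat.factorial] at h60
  · -- `A₅`
    have h1 : p ∣ 60 := by
      have h2 : Nat.card H = 60 := by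
        rw [Nat.card_congr e.toEquiv, nat_card_alternatingGroup]
        norm_num [Nat.factorial]
      rwa [h2] at hpH
    have h2 : p = 2 ∨ p = 3 ∨ p = 5 := by
      have h3 : p ∣ 2 * 2 * 3 * 5 := h1
      have hpp := hp.out
      rw [hpp.dvd_mul, hpp.dvd_mul, hpp.dvd_mul, Nat.prime_dvd_prime_iff_eq hpp Nat.prime_two,
        Nat.prime_dvd_prime_iff_eq hpp Nat.prime_three, Nat.prime_dvd_prime_iff_eq hpp Nat.prime_five] at h3
      tauto
    rcases h2 with rfl | rfl | rfl
    · exact Or.inl (alt_two e)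
    · exact Or.inr ⟨rfl, ⟨e⟩⟩
    · exact Or.inl (alt_five e)
  · left
    haveI := charP_of_pow p hm
    refine ⟨K, inferInstance, inferInstance, inferInstance, 2, le_rfl, fun _ => ?_, ⟨e⟩⟩
    by_contra hlt
    have h1 := card_psl_small (K := K) (by omega)
    rw [← Nat.card_congr e.toEquiv] at h1
    omega
  · left
    haveI := charP_of_pow p hm
    haveI hsp : IsSimpleGroup (ProjGenLinGroup (Fin 2) K) := e.symm.isSimpleGroup
    obtain ⟨f⟩ := pgl_psl hsp
    refine ⟨K, inferInstance, inferInstance, inferInstance, 2, le_rfl, fun _ => ?_, ⟨e.trans f⟩⟩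
    by_contra hlt
    have h1 := card_psl_small (K := K) (by omega)
    rw [← Nat.card_congr (e.trans f).toEquiv] at h1
    omega

end Cfsg.Agent.H19.RP
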