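import Cfsg.Agent.H659.J1Not11
import Cfsg.Agent.H871.Par8

/-!
# S3512: `J₁` in characteristic 11 has no representation of degree at most 6 (helper19)

`seven_le` : a representation of a group with a subgroup `2³:7` on which the involution acts nontrivially has degree
`≥ 7` in characteristic 11.  `j1_row` : a core of type `J₁` in characteristic 11 has degree `≥ 7`.
-/

set_option autoImplicit false

open Cfsg Matrix Module

namespace Cfsg.Agent.H19.RP

universe u v w

section seven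

variable {K : Type u} [Field K] {V : Type v} [AddCommGroup V] [Module K V]

/-- a common eigenvector -/
structure W (A B C : Module.End K V) (α β γ : ℤ) (v : V) : Prop where
  a : A v = (α : K) • v
  b : B v = (β : K) • v
  c : C v = (γ : K) • v
  ne : v ≠ 0
  aa : α * α = 1
  bb : β * β = 1
  cc : γ * γ = 1

variable {A B C Y Y' : Module.End K V}

theorem W.step {α β γ : ℤ} {v : V} (h : W A B C α β γ v) (h1 : Y' * Y = 1) (hB : B * Y = Y * A) (hC : C * Y = Y * B)
    (hAB : A * B * Y = Y * C) : W A B C (α * γ) α β (Y v) := by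
  have hb : B (Y v) = (α : K) • Y v := by
    have h2 := LinearMap.congr_fun hB v
    change B (Y v) = Y (A v) at h2
    rw [h2, h.a, map_smul]
  have hc : C (Y v) = (β : K) • Y v := by
    have h2 := LinearMap.congr_fun hC v
    change C (Y v) = Y (B v) at h2
    rw [h2, h.b, map_smul]
  have ha : A (Y v) = ((α * γ : ℤ) : K) • Y v := by
    have h2 := LinearMap.congr_fun hAB v
    change A (B (Y v)) = Y (C v) at h2
    rw [hb, h.c, map_smul, map_smul] at h2
    have h3 : (α : K) * α = 1 := by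
      have := congrArg (Int.cast : ℤ → K) h.aa
      push_cast at this
      exact this
    have h4 := congrArg (fun t => (α : K) • t) h2
    simp only [smul_smul, h3, one_smul] at h4
    rw [h4]
    push_cast
    rfl
  refine ⟨ha, hb, hc, ?_, ?_, h.aa, h.bb⟩
  · intro h0
    apply h.ne
    have h2 := LinearMap.congr_fun h1 v
    change Y' (Y v) = v at h2
    rw [← h2, h0, map_zero]
  · calc α * γ * (α * γ) = (α * α) * (γ * γ) := by ring
      _ = 1 := by rw [h.aa, h.cc, one_mul]

theorem W.eig {α β γ : ℤ} {v : V} (h : W A B C α β γ v) (m : ℤ) (hm : m = α + 2 * β + 4 * γ) :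
    (A + (2 : K) • B + (4 : K) • C).HasEigenvector (m : K) v := by
  rw [Module.End.hasEigenvector_iff, Module.End.mem_eigenspace_iff]
  refine ⟨?_, h.ne⟩
  rw [LinearMap.add_apply, LinearMap.add_apply, LinearMap.smul_apply, LinearMap.smul_apply, h.a, h.b, h.c, hm]
  push_cast
  rw [smul_smul, smul_smul, ← add_smul, ← add_smul]

theorem exists_W (hAA : A * A = 1) (hBB : B * B = 1) (hCC : C * C = 1) (hAB : A * B = B * A) (hAC : A * C = C * A)
    (hBC : B * C = C * B) (hA : A ≠ 1) :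
    ∃ (β γ : ℤ) (v : V), (β = 1 ∨ β = -1) ∧ (γ = 1 ∨ γ = -1) ∧ W A B C (-1) β γ v := by
  obtain ⟨u, hu⟩ : ∃ u, A u ≠ u := by
    by_contra hcon
    push Not at hcon
    exact hA (LinearMap.ext hcon)
  have e1 : ∀ (S T : Module.End K V), S * T = T * S → ∀ x, S (T x) = T (S x) := fun S T h x => LinearMap.congr_fun h x
  have e2 : ∀ (S : Module.End K V), S * S = 1 → ∀ x, S (S x) = x := fun S h x => LinearMap.congr_fun h x
  have hv1 : u - A u ≠ 0 := fun h0 => hu (sub_eq_zero.1 h0).symm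
  obtain ⟨v1, hv1, ha1⟩ : ∃ v1 : V, v1 ≠ 0 ∧ A v1 = -v1 :=
    ⟨u - A u, hv1, by rw [map_sub, e2 A hAA]; abel⟩
  obtain ⟨β, hβ, v2, hv2, ha2, hb2⟩ : ∃ β : ℤ, (β = 1 ∨ β = -1) ∧ ∃ v2 : V, v2 ≠ 0 ∧ A v2 = -v2 ∧ B v2 = (β : K) • v2 := by
    by_cases h : B v1 = v1
    · exact ⟨1, Or.inl rfl, v1, hv1, ha1, by rw [h]; simp⟩
    · refine ⟨-1, Or.inr rfl, v1 - B v1, fun h0 => h (sub_eq_zero.1 h0).symm, ?_, ?_⟩
      · rw [map_sub, e1 A B hAB, ha1, map_neg]; abel
      · rw [map_sub, e2 B hBB]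
        push_cast
        rw [neg_smul, one_smul]
        abel
  obtain ⟨γ, hγ, v3, hv3, ha3, hb3, hc3⟩ : ∃ γ : ℤ, (γ = 1 ∨ γ = -1) ∧ ∃ v3 : V, v3 ≠ 0 ∧ A v3 = -v3 ∧
      B v3 = (β : K) • v3 ∧ C v3 = (γ : K) • v3 := by
    by_cases h : C v2 = v2
    · exact ⟨1, Or.inl rfl, v2, hv2, ha2, hb2, by rw [h]; simp⟩
    · refine ⟨-1, Or.inr rfl, v2 - C v2, fun h0 => h (sub_eq_zero.1 h0).symm, ?_, ?_, ?_⟩
      · rw [map_sub, e1 A C hAC, ha2, map_neg]; abel
      · rw [map_sub, e1 B C hBC, hb2, map_smul, smul_sub]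
      · rw [map_sub, e2 C hCC]
        push_cast
        rw [neg_smul, one_smul]
        abel
  refine ⟨β, γ, v3, hβ, hγ, ?_, hb3, hc3, hv3, by norm_num, ?_, ?_⟩
  · rw [ha3]
    push_cast
    rw [neg_smul, one_smul]
  · rcases hβ with rfl | rfl <;> norm_num
  · rcases hγ with rfl | rfl <;> norm_num

theorem inj_of (K : Type u) [Field K] [CharP K 11] (m : Fin 7 → ℤ) (h : ∀ i j, (11 : ℤ) ∣ m i - m j → i = j) :
    Function.Injective (fun i => ((m i : ℤ) : K)) := by
  intro i j hij
  apply h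
  have h1 : ((m i - m j : ℤ) : K) = 0 := by
    push_cast
    exact sub_eq_zero.2 hij
  exact (CharP.intCast_eq_zero_iff K 11 _).1 h1

/-- **`2³:7` has degree at least seven in characteristic 11** -/
theorem seven_le [FiniteDimensional K V] [CharP K 11] (hAA : A * A = 1) (hAB : A * B = B * A) (hA : A ≠ 1)
    (h1 : Y' * Y = 1) (h1' : Y * Y' = 1) (hB : B * Y = Y * A) (hC : C * Y = Y * B) (hABC : A * B * Y = Y * C) :
    7 ≤ Module.finrank K V := by
  have cancel : ∀ S T : Module.End K V, S * Y = T * Y → S = T := by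
    intro S T h
    have := congrArg (· * Y') h
    simpa only [mul_assoc, h1', mul_one] using this
  have hBB : B * B = 1 := by
    apply cancel
    rw [mul_assoc, hB, ← mul_assoc, hB, mul_assoc, hAA, mul_one, one_mul]
  have hCC : C * C = 1 := by
    apply cancel
    rw [mul_assoc, hC, ← mul_assoc, hC, mul_assoc, hBB, mul_one, one_mul]
  have hBC : B * C = C * B := by
    apply cancel
    rw [mul_assoc, hC, ← mul_assoc, hB, mul_assoc, hAB, ← mul_assoc, ← hC, mul_assoc, ← hB, ← mul_assoc]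
  have hAC : A * C = C * A := by
    have h3 : C * (A * B) = A * B * C := by
      apply cancel
      rw [mul_assoc, hABC, ← mul_assoc, hC, mul_assoc, hBC, ← mul_assoc, ← hABC, mul_assoc, ← hC, ← mul_assoc]
    have h4 := congrArg (· * B) h3
    simp only [mul_assoc, hBB, mul_one] at h4
    rw [← hBC] at h4
    rw [← mul_assoc B B C, hBB, one_mul] at h4
    exact h4.symm
  obtain ⟨β, γ, v, hβ, hγ, w0⟩ := exists_W hAA hBB hCC hAB hAC hBC hA
  have w1 := w0.step h1 hB hC hABC
  have w2 := w1.step h1 hB hC hABC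
  have w3 := w2.step h1 hB hC hABC
  have w4 := w3.step h1 hB hC hABC
  have w5 := w4.step h1 hB hC hABC
  have w6 := w5.step h1 hB hC hABC
  have key : ∀ (m : Fin 7 → ℤ) (x : Fin 7 → V), (∀ i j, (11 : ℤ) ∣ m i - m j → i = j) →
      (∀ i, (A + (2 : K) • B + (4 : K) • C).HasEigenvector ((m i : ℤ) : K) (x i)) → 7 ≤ Module.finrank K V := by
    intro m x hm hx
    have h3 := Module.End.eigenvectors_linearIndependent' _ (fun i => ((m i : ℤ) : K)) (inj_of K m hm) x hx
    simpa using h3.fintype_card_le_finrank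
  have key2 : ∀ (m : Fin 7 → ℤ), (∀ i j, (11 : ℤ) ∣ m i - m j → i = j) →
      m 0 = (-1) + 2 * β + 4 * γ → m 1 = (-1) * γ + 2 * (-1) + 4 * β → m 2 = (-1) * γ * β + 2 * ((-1) * γ) + 4 * (-1) →
      m 3 = (-1) * γ * β * (-1) + 2 * ((-1) * γ * β) + 4 * ((-1) * γ) →
      m 4 = (-1) * γ * β * (-1) * ((-1) * γ) + 2 * ((-1) * γ * β * (-1)) + 4 * ((-1) * γ * β) →
      m 5 = (-1) * γ * β * (-1) * ((-1) * γ) * ((-1) * γ * β) + 2 * ((-1) * γ * β * (-1) * ((-1) * γ)) +
        4 * ((-1) * γ * β * (-1)) →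
      m 6 = (-1) * γ * β * (-1) * ((-1) * γ) * ((-1) * γ * β) * ((-1) * γ * β * (-1)) +
        2 * ((-1) * γ * β * (-1) * ((-1) * γ) * ((-1) * γ * β)) + 4 * ((-1) * γ * β * (-1) * ((-1) * γ)) →
      7 ≤ Module.finrank K V := by
    intro m hm e0 e1 e2 e3 e4 e5 e6
    refine key m ![v, Y v, Y (Y v), Y (Y (Y v)), Y (Y (Y (Y v))), Y (Y (Y (Y (Y v)))), Y (Y (Y (Y (Y (Y v)))))] hm ?_
    intro i
    fin_cases i
    · exact w0.eig _ e0
    · exact w1.eig _ e1
    · exact w2.eig _ e2
    · exact w3.eig _ e3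
    · exact w4.eig _ e4
    · exact w5.eig _ e5
    · exact w6.eig _ e6
  rcases hβ with rfl | rfl <;> rcases hγ with rfl | rfl
  · exact key2 ![5, 1, -7, -5, -3, 3, -1] (by decide) (by decide) (by decide) (by decide) (by decide) (by decide)
      (by decide) (by decide)
  · exact key2 ![-3, 3, -1, 5, 1, -7, -5] (by decide) (by decide) (by decide) (by decide) (by decide) (by decide)
      (by decide) (by decide)
  · exact key2 ![1, -7, -5, -3, 3, -1, 5] (by decide) (by decide) (by decide) (by decide) (by decide) (by decide)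
      (by decide) (by decide)
  · exact key2 ![-7, -5, -3, 3, -1, 5, 1] (by decide) (by decide) (by decide) (by decide) (by decide) (by decide)
      (by decide) (by decide)

end seven

/-- a matrix group in characteristic 11 with a subgroup `2³:7` has degree at least seven -/
theorem frob8_le {F : Type u} [Field F] [CharP F 11] {ι : Type} [Fintype ι] [DecidableEq ι] {T : Type v} [Group T]
    (h : Cfsg.Agent.H871.Par.Frob8 T) (φ : T →* GL ι F) (hφ : Function.Injective φ) : 7 ≤ Fintype.card ι := by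
  obtain ⟨a, b, c, y, h1, h2, h3, h4, h5, h6⟩ := h
  let ρ : T →* Module.End F (ι → F) :=
    (Matrix.toLinAlgEquiv' : Matrix ι ι F ≃ₐ[F] ((ι → F) →ₗ[F] (ι → F))).toAlgHom.toMonoidHom.comp
      ((Units.coeHom (Matrix ι ι F)).comp φ)
  have hρ : Function.Injective ρ := fun x z hxz => hφ (Units.ext (Matrix.toLinAlgEquiv'.injective hxz))
  have h7 := seven_le (A := ρ a) (B := ρ b) (C := ρ c) (Y := ρ y) (Y' := ρ y⁻¹) (by rw [← map_mul, h1, map_one])
    (by rw [← map_mul, h3, map_mul]) (fun h0 => h2 (hρ (h0.trans (map_one ρ).symm)))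
    (by rw [← map_mul, inv_mul_cancel, map_one]) (by rw [← map_mul, mul_inv_cancel, map_one])
    (by rw [← map_mul, ← map_mul, ← h4]; congr 1; group)
    (by rw [← map_mul, ← map_mul, ← h5]; congr 1; group)
    (by rw [← map_mul, ← map_mul, ← map_mul, ← h6]; congr 1; group)
  rwa [Module.finrank_fintype_fun_eq_card] at h7

/-- **cores of type `J₁` in characteristic 11 have degree at least seven** -/
theorem j1_core {F : Type u} [Field F] [CharP F 11] {ι : Type} [Fintype ι] [DecidableEq ι]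
    {P : Subgroup (GL ι F)} (hC : Cfsg.Agent.H915.LD.Core P) (hn : Fintype.card ι ≤ 6)
    (h : Spor.IsoJ1 (Cfsg.Agent.H915.LD.Soc P)) : False := by
  obtain ⟨e⟩ := h
  obtain ⟨-, E, -⟩ := Cfsg.Agent.H659.J1.exists_equiv hC e
  have h7 := frob8_le Cfsg.Agent.H871.Par.frob8_J1 (P.subtype.comp E.symm.toMonoidHom)
    (fun x z hxz => E.symm.injective (Subtype.ext hxz))
  omega

/-- the piece `j1` of `H391.HT.AsmP.Pieces` -/
theorem j1_row (F : Type u) [Field F] [Finite F] [CharP F 11] (n : ℕ)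
    (P : Subgroup (Matrix.GeneralLinearGroup (Fin n) F)) (hC : Cfsg.Agent.H915.LD.Core P) (hn : n ≤ 6)
    (h : Spor.IsoJ1 (Cfsg.Agent.H915.LD.Soc P)) : False :=
  j1_core hC (by rw [Fintype.card_fin]; exact hn) h

end Cfsg.Agent.H19.RP
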