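import Cfsg.Agent.H19.RP.Dick
import Cfsg.Agent.H192.Ht.QLN

/-!
# S3512, the rows of degree two (helper19)

`two_row` : `QL p K V G L h`, `finrank K V = 2`, `p ∣ |L|`, `L / Z(L)` not of Lie type in characteristic `p`:
`p = 3` and `L / Z(L) ≃* A₅`.
-/

set_option autoImplicit false
set_option linter.style.haveILetI false

open Cfsg Matrix
open Cfsg.Agent.H742.HT Cfsg.Agent.H192.Ht.QN

namespace Cfsg.Agent.H19.RP

universe u w

variable {p : ℕ} [Fact p.Prime] {K : Type w} [Field K] {V : Type u} [AddCommGroup V] [Module (ZMod p) V]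
  [Module K V] [Finite V] {G L : Subgroup (V ≃ₗ[ZMod p] V)} {h : ℕ}

/-- `L` as a group of matrices of determinant one -/
noncomputable def toSL (H : QL p K V G L h) {n : ℕ} (b : Module.Basis (Fin n) K V) :
    L →* SpecialLinearGroup (Fin n) K where
  toFun l := ⟨LinearMap.toMatrixAlgEquiv b ((toK H l : V ≃ₗ[K] V) : V →ₗ[K] V), by
    have h1 := det_toK H l
    have h2 : LinearMap.det ((toK H l : V ≃ₗ[K] V) : V →ₗ[K] V) = 1 := by
      rw [← LinearEquiv.coe_det, h1]; rfl
    rw [← h2]
    exact LinearMap.det_toMatrix b _⟩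
  map_one' := by
    apply Subtype.ext
    change LinearMap.toMatrixAlgEquiv b ((toK H 1 : V ≃ₗ[K] V) : V →ₗ[K] V) = 1
    rw [map_one]
    exact map_one _
  map_mul' x y := by
    apply Subtype.ext
    change LinearMap.toMatrixAlgEquiv b ((toK H (x * y) : V ≃ₗ[K] V) : V →ₗ[K] V) = _
    rw [map_mul]
    exact map_mul (LinearMap.toMatrixAlgEquiv b) _ _

theorem toSL_injective (H : QL p K V G L h) {n : ℕ} (b : Module.Basis (Fin n) K V) :
    Function.Injective (toSL H b) := by
  intro x y hxy
  apply toK_injective H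
  have h1 := congrArg Subtype.val hxy
  have h2 := (LinearMap.toMatrixAlgEquiv b).injective h1
  exact LinearEquiv.toLinearMap_injective h2

/-- the kernel on `PSL` is the centre -/
theorem ker_toPSL (H : QL p K V G L h) {n : ℕ} (b : Module.Basis (Fin n) K V) :
    ((QuotientGroup.mk' (Subgroup.center (SpecialLinearGroup (Fin n) K))).comp (toSL H b)).ker =
      Subgroup.center L := by
  ext x
  rw [MonoidHom.mem_ker, MonoidHom.comp_apply, QuotientGroup.mk'_apply, QuotientGroup.eq_one_iff]
  constructor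
  · intro hx
    rw [Subgroup.mem_center_iff]
    intro g
    apply toSL_injective H b
    rw [map_mul, map_mul]
    exact Subgroup.mem_center_iff.1 hx _
  · intro hx
    obtain ⟨c, hc⟩ := H.endo (x : V ≃ₗ[ZMod p] V) (fun l hl v => by
      have h1 := Subgroup.mem_center_iff.1 hx ⟨l, hl⟩
      have h2 : l * (x : V ≃ₗ[ZMod p] V) = x * l := congrArg Subtype.val h1
      exact (LinearEquiv.congr_fun h2 v).symm)
    have h3 : ((toK H x : V ≃ₗ[K] V) : V →ₗ[K] V) = c • LinearMap.id := LinearMap.ext hc
    have h4 : ((toSL H b x : SpecialLinearGroup (Fin n) K) : Matrix (Fin n) (Fin n) K) = c • 1 := by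
      change LinearMap.toMatrixAlgEquiv b ((toK H x : V ≃ₗ[K] V) : V →ₗ[K] V) = _
      rw [h3, map_smul]
      congr 1
      exact map_one _
    rw [Subgroup.mem_center_iff]
    intro g
    apply Subtype.ext
    change (g : Matrix (Fin n) (Fin n) K) * ((toSL H b x : SpecialLinearGroup (Fin n) K) : Matrix (Fin n) (Fin n) K) =
      ((toSL H b x : SpecialLinearGroup (Fin n) K) : Matrix (Fin n) (Fin n) K) * (g : Matrix (Fin n) (Fin n) K)
    rw [h4, Matrix.mul_smul, Matrix.smul_mul, mul_one, one_mul]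

/-- **degree two** -/
theorem two_row (H : QL p K V G L h) (h2 : Module.finrank K V = 2) (hp : p ∣ Nat.card L)
    (hn : ¬ IsLieTypeChar p (L ⧸ Subgroup.center L)) :
    p = 3 ∧ Nonempty (L ⧸ Subgroup.center L ≃* alternatingGroup (Fin 5)) := by
  haveI := finiteK H
  haveI := finiteDim H
  haveI := Fintype.ofFinite K
  haveI := H.simple
  obtain ⟨k, hk, hk0⟩ := exists_card H
  haveI : CharP K p := charP_of_card_eq_prime_pow (by rw [← Nat.card_eq_fintype_card]; exact hk)
  let b : Module.Basis (Fin 2) K V := Module.finBasisOfFinrankEq K V h2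
  set ψ := (QuotientGroup.mk' (Subgroup.center (SpecialLinearGroup (Fin 2) K))).comp (toSL H b) with hψ
  have hker : ψ.ker = Subgroup.center L := ker_toPSL H b
  let e : L ⧸ Subgroup.center L ≃* ψ.range :=
    (QuotientGroup.quotientMulEquivOfEq hker.symm).trans (QuotientGroup.quotientKerEquivRange ψ)
  haveI hs : IsSimpleGroup ψ.range := e.symm.isSimpleGroup
  -- noncommutative
  have hnc : ¬ IsMulCommutative ψ.range := by
    intro hc
    obtain ⟨x, hx, y, hy, hxy⟩ := H.nonab
    have h1 : ∀ a b : L ⧸ Subgroup.center L, a * b = b * a := by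
      intro a b
      apply e.injective
      rw [map_mul, map_mul]
      exact hc.is_comm.comm _ _
    have h3 : commutator L ≤ Subgroup.center L := by
      rw [commutator_def, Subgroup.commutator_le]
      intro a _ b _
      rw [← QuotientGroup.eq_one_iff, commutatorElement_def, QuotientGroup.mk_mul, QuotientGroup.mk_mul,
        QuotientGroup.mk_mul, h1 (QuotientGroup.mk a), QuotientGroup.mk_inv, QuotientGroup.mk_inv]
      group
    rw [H.perf] at h3
    have h4 := Subgroup.mem_center_iff.1 (h3 (Subgroup.mem_top (⟨x, hx⟩ : L))) ⟨y, hy⟩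
    exact hxy (congrArg Subtype.val h4).symm
  -- the order
  have hZ : ¬ p ∣ Nat.card (Subgroup.center L) := by
    intro hd
    obtain ⟨z, hz⟩ := exists_prime_orderOf_dvd_card' p hd
    obtain ⟨c, hc⟩ := H.endo ((z : L) : V ≃ₗ[ZMod p] V) (fun l hl v => by
      have h1 := Subgroup.mem_center_iff.1 z.2 ⟨l, hl⟩
      have h2 : l * ((z : L) : V ≃ₗ[ZMod p] V) = ((z : L) : V ≃ₗ[ZMod p] V) * l := congrArg Subtype.val h1
      exact (LinearEquiv.congr_fun h2 v).symm)
    have hc' : ∀ v : V, ((z : L) : V ≃ₗ[ZMod p] V) v = c • v := hc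
    have h3 : ∀ (j : ℕ) (v : V), (((z : L) : V ≃ₗ[ZMod p] V) ^ j) v = c ^ j • v := by
      intro j
      induction j with
      | zero => intro v; simp
      | succ j ih =>
        intro v
        rw [pow_succ', LinearEquiv.mul_apply, ih, hc', smul_smul, pow_succ']
    have h5 : z ^ p = 1 := orderOf_dvd_iff_pow_eq_one.1 (dvd_of_eq hz)
    have h4 : (((z : L) : V ≃ₗ[ZMod p] V) ^ p) = 1 :=
      congrArg (fun t : Subgroup.center L => ((t : L) : V ≃ₗ[ZMod p] V)) h5
    haveI : Nontrivial V := Module.nontrivial_of_finrank_pos (R := K) (by omega)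
    obtain ⟨v, hv⟩ := exists_ne (0 : V)
    have h5 : c ^ p = 1 := by
      have h6 : v = c ^ p • v := by
        have h6 := h3 p v
        rw [h4] at h6
        exact h6
      have h7 : (c ^ p - 1) • v = 0 := by rw [sub_smul, one_smul, ← h6, sub_self]
      rcases smul_eq_zero.1 h7 with h8 | h8
      · exact sub_eq_zero.1 h8
      · exact absurd h8 hv
    have h6 : c = 1 := by
      have h7 : (c - 1) ^ p = 0 := by rw [sub_pow_char, h5, one_pow, sub_self]
      exact sub_eq_zero.1 (pow_eq_zero_iff (Fact.out : p.Prime).ne_zero |>.1 h7)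
    have h7 : z = 1 := by
      apply Subtype.ext
      apply Subtype.ext
      apply LinearEquiv.ext
      intro v
      have h8 := hc' v
      rw [h6, one_smul] at h8
      exact h8
    rw [h7, orderOf_one] at hz
    exact (Fact.out : p.Prime).one_lt.ne hz
  have hpr : p ∣ Nat.card ψ.range := by
    rw [← Nat.card_congr e.toEquiv]
    have h1 := Subgroup.card_eq_card_quotient_mul_card_subgroup (Subgroup.center L)
    rw [h1] at hp
    exact ((Fact.out : p.Prime).dvd_mul.1 hp).resolve_right hZ
  rcases psl_sub p ψ.range hs hnc hpr with h1 | ⟨h1, ⟨f⟩⟩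
  · exfalso
    apply hn
    left
    obtain ⟨F, i1, i2, i3, n, hn1, hn2, ⟨f⟩⟩ := h1
    exact ⟨F, i1, i2, i3, n, hn1, hn2, ⟨e.trans f⟩⟩
  · exact ⟨h1, ⟨e.trans f⟩⟩

end Cfsg.Agent.H19.RP
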